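import Cfsg.Agent.H419.EP.Big
import Cfsg.Agent.H525.Ppd.UMain
import Cfsg.Agent.H269.Ppd.PsuFour
import Cfsg.Agent.H69.Ppd.Psu5
import Cfsg.Agent.S0815
import Cfsg.Agent.S0280

/-!
# S3499, layer VII, dimension `n ≥ 13`: the socles `PSU(3, q)`, `PSU(4, q)`, `PSU(5, q)`, own characteristic (helper69)

* `card_aut_le` : `|Aut PSU(d, q)| ≤ q ^ (d ^ 2)`, `d = 3, 4, 5`;
* **`own_psu_small`** : the part `d ≤ 5` of `Cfsg.Agent.H419.EP.OwnPSU`, from `|Q| ≤ |A| ^ 4`.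
-/

set_option autoImplicit false

namespace Cfsg.Agent.H69.EP

open Cfsg Cfsg.Agent.H284 Cfsg.Agent.H419.EP Cfsg.Agent.H915.LD

/-- `2 f ≤ p ^ f` -/
theorem two_mul_le_pow {p f : ℕ} (hp : 2 ≤ p) (hf : 1 ≤ f) : 2 * f ≤ p ^ f := by
  have h1 : ∀ g : ℕ, 2 * (g + 1) ≤ 2 ^ (g + 1) := by
    intro g
    induction g with
    | zero => norm_num
    | succ g ih =>
      have h2 : 2 ^ (g + 1 + 1) = 2 * 2 ^ (g + 1) := by ring
      omega
  obtain ⟨g, rfl⟩ : ∃ g, f = g + 1 := ⟨f - 1, by omega⟩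
  exact (h1 g).trans (Nat.pow_le_pow_left hp _)

/-- the orders -/
theorem card_psu_le {K : Type*} [Field K] [Fintype K] {q : ℕ} (hK : Fintype.card K = q ^ 2) (hq : 2 ≤ q) {d : ℕ}
    (hd : d = 3 ∨ d = 4 ∨ d = 5) : Nat.gcd d (q + 1) * Nat.card (PSU d K q) ≤ q ^ (d ^ 2 - 1) := by
  have h1 := S0280.result (F := K) hK d (by omega)
  have hq2 : 1 ≤ q ^ 2 := Nat.one_le_pow _ _ (by omega)
  have hq4 : 1 ≤ q ^ 4 := Nat.one_le_pow _ _ (by omega)
  have hmono : ∀ a : ℕ, q ^ a ≤ q ^ (a + 1) := fun a => Nat.pow_le_pow_right (by omega) (by omega)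
  -- `(q ^ 2 - 1) (q ^ 3 + 1) ≤ q ^ 5`
  have e5 : (q ^ 2 - 1) * (q ^ 3 + 1) ≤ q ^ 5 := by
    obtain ⟨s, hs⟩ : ∃ s, q ^ 2 = s + 1 := ⟨q ^ 2 - 1, (Nat.sub_add_cancel hq2).symm⟩
    have h3 := hmono 2
    have h5 : q ^ 5 = q ^ 2 * q ^ 3 := by ring
    rw [h5, hs, Nat.add_sub_cancel]
    nlinarith [hs]
  have e9 : (q ^ 4 - 1) * (q ^ 5 + 1) ≤ q ^ 9 := by
    obtain ⟨s, hs⟩ : ∃ s, q ^ 4 = s + 1 := ⟨q ^ 4 - 1, (Nat.sub_add_cancel hq4).symm⟩
    have h3 := hmono 4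
    have h5 : q ^ 9 = q ^ 4 * q ^ 5 := by ring
    rw [h5, hs, Nat.add_sub_cancel]
    nlinarith [hs]
  have hpos : 0 < q + 1 := by omega
  refine Nat.le_of_mul_le_mul_left (?_ : (q + 1) * _ ≤ (q + 1) * _) hpos
  have h2 : (q + 1) * (Nat.gcd d (q + 1) * Nat.card (PSU d K q))
      = Nat.gcd d (q + 1) * ((q + 1) * Nat.card (PSU d K q)) := by ring
  rw [h2, h1]
  rcases hd with rfl | rfl | rfl
  · simp only [Finset.prod_range_succ, Finset.prod_range_zero, one_mul]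
    norm_num [Nat.even_iff]
    calc q ^ 3 * ((q + 1) * (q ^ 2 - 1) * (q ^ 3 + 1)) = (q + 1) * (q ^ 3 * ((q ^ 2 - 1) * (q ^ 3 + 1))) := by ring
      _ ≤ (q + 1) * (q ^ 3 * q ^ 5) := Nat.mul_le_mul_left _ (Nat.mul_le_mul_left _ e5)
      _ = (q + 1) * q ^ 8 := by ring
  · simp only [Finset.prod_range_succ, Finset.prod_range_zero, one_mul]
    norm_num [Nat.even_iff]
    calc q ^ 6 * ((q + 1) * (q ^ 2 - 1) * (q ^ 3 + 1) * (q ^ 4 - 1))
        = (q + 1) * (q ^ 6 * ((q ^ 2 - 1) * (q ^ 3 + 1)) * (q ^ 4 - 1)) := by ring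
      _ ≤ (q + 1) * (q ^ 6 * q ^ 5 * q ^ 4) := Nat.mul_le_mul_left _
          (Nat.mul_le_mul (Nat.mul_le_mul_left _ e5) (Nat.sub_le _ _))
      _ = (q + 1) * q ^ 15 := by ring
  · simp only [Finset.prod_range_succ, Finset.prod_range_zero, one_mul]
    norm_num [Nat.even_iff]
    calc q ^ 10 * ((q + 1) * (q ^ 2 - 1) * (q ^ 3 + 1) * (q ^ 4 - 1) * (q ^ 5 + 1))
        = (q + 1) * (q ^ 10 * ((q ^ 2 - 1) * (q ^ 3 + 1)) * ((q ^ 4 - 1) * (q ^ 5 + 1))) := by ring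
      _ ≤ (q + 1) * (q ^ 10 * q ^ 5 * q ^ 9) := Nat.mul_le_mul_left _
          (Nat.mul_le_mul (Nat.mul_le_mul_left _ e5) e9)
      _ = (q + 1) * q ^ 24 := by ring

/-- `|Aut PSU(d, q)| ≤ q ^ (d ^ 2)`, `d = 3, 4, 5` -/
theorem card_aut_le {K : Type*} [Field K] [Fintype K] {q : ℕ} (p : ℕ) [hp : Fact p.Prime] [CharP K p]
    (hK : Fintype.card K = q ^ 2) {d : ℕ} (hd : d = 3 ∨ d = 4 ∨ d = 5) (h32 : ¬ (d = 3 ∧ q = 2)) (hq : 2 ≤ q)
    {f : ℕ} (hqf : q = p ^ f) : Nat.card (MulAut (PSU d K q)) ≤ q ^ (d ^ 2) := by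
  have hf : 1 ≤ f := by
    rcases Nat.eq_zero_or_pos f with rfl | h
    · rw [pow_zero] at hqf
      omega
    · exact h
  rw [S0815.result p f hf hqf hK d (by omega) h32]
  have h1 := card_psu_le hK hq hd
  have h2 : 2 * f ≤ q := by
    rw [hqf]
    exact two_mul_le_pow hp.out.two_le hf
  calc Nat.gcd d (q + 1) * (2 * f) * Nat.card (PSU d K q)
      = 2 * f * (Nat.gcd d (q + 1) * Nat.card (PSU d K q)) := by ring
    _ ≤ q * q ^ (d ^ 2 - 1) := Nat.mul_le_mul h2 h1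
    _ = q ^ (d ^ 2) := by
        rw [← pow_succ']
        congr 1
        rcases hd with rfl | rfl | rfl <;> norm_num

/-- the arithmetic of the order bound -/
theorem num_bound {N n q Q d X A : ℕ} (hN : Q ^ N = q ^ 2) (hq : 2 ≤ q)
    (h1 : Q ^ (n * (n - 1) / 2) ≤ 8 * X) (h2 : X ≤ A ^ 4) (h3 : A ≤ q ^ (d ^ 2)) :
    n * (n - 1) ≤ N * (4 * d ^ 2 + 3) := by
  have h4 : Q ^ (n * (n - 1) / 2) ≤ q ^ (4 * d ^ 2 + 3) := by
    calc Q ^ (n * (n - 1) / 2) ≤ 8 * X := h1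
      _ ≤ q ^ 3 * (q ^ (d ^ 2)) ^ 4 := by
          refine Nat.mul_le_mul ?_ (h2.trans (Nat.pow_le_pow_left h3 4))
          exact Nat.pow_le_pow_left hq 3
      _ = q ^ (4 * d ^ 2 + 3) := by rw [← pow_mul, ← pow_add]; congr 1; ring
  have hdiv : n * (n - 1) / 2 * 2 = n * (n - 1) := Nat.div_mul_cancel (Nat.even_mul_pred_self _).two_dvd
  have h5 := Nat.pow_le_pow_left h4 (2 * N)
  have h6 : (Q ^ (n * (n - 1) / 2)) ^ (2 * N) = q ^ (2 * (n * (n - 1))) := by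
    rw [← pow_mul, ← mul_assoc, hdiv, mul_comm (n * (n - 1)) N, pow_mul, hN, ← pow_mul]
  rw [h6, ← pow_mul] at h5
  have h7 := (Nat.pow_le_pow_iff_right (show 1 < q by omega)).1 h5
  nlinarith [h7]

/-- a residual core is a core -/
theorem core_of {ι : Type} [Fintype ι] [DecidableEq ι] {F : Type} [Field F] {H P : Subgroup (Matrix.GeneralLinearGroup ι F)}
    (h : Cfsg.Geo.IsResidualCore H P) : Core P :=
  ⟨h.perfect, h.simple, h.nonabelian, h.absIrred, h.no_subfield⟩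

/-- `64 ≤ 2 ^ N` kills `67 N` -/
theorem big_pow {N : ℕ} (hN : 6 ≤ N) : 67 * N + 2 ^ N < 2 ^ N * 2 ^ N := by
  have h1 : ∀ g : ℕ, 67 * (g + 6) + 2 ^ (g + 6) < 2 ^ (g + 6) * 2 ^ (g + 6) := by
    intro g
    induction g with
    | zero => norm_num
    | succ g ih =>
      have h2 : 2 ^ (g + 1 + 6) = 2 * 2 ^ (g + 6) := by ring
      have h3 : 2 ^ 6 ≤ 2 ^ (g + 6) := Nat.pow_le_pow_right (by norm_num) (by omega)
      rw [h2]
      nlinarith [ih, h3]
  obtain ⟨g, rfl⟩ : ∃ g, N = g + 6 := ⟨N - 6, by omega⟩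
  exact h1 g

/-- **Task S3499-VII13-PSU-small**: the socles `PSU(3, q)`, `PSU(4, q)`, `PSU(5, q)`, own characteristic. -/
theorem own_psu_small {Q : Type} [Group Q] [Finite Q] {A : Subgroup Q} {Γ : Subgroup (MulAut Q)} {ι : Type} [Fintype ι]
    [DecidableEq ι] {F : Type} [Field F] [Fintype F] {S P : Subgroup (Matrix.GeneralLinearGroup ι F)}
    (b : Big A Γ S P) (hUB : Nat.card Q ≤ Nat.card A ^ 4) (K : Type) [Field K] [Fintype K] (d q : ℕ)
    (hK : Fintype.card K = q ^ 2) (hd3 : 3 ≤ d) (hd5 : d ≤ 5) (h32 : ¬ (d = 3 ∧ q = 2))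
    (hc : ringChar F = ringChar K) (e : Nonempty (socle P ≃* PSU d K q)) : False := by
  obtain ⟨e⟩ := e
  obtain ⟨p, hKp⟩ := CharP.exists K
  have hp' : p.Prime := (CharP.char_is_prime_or_zero K p).resolve_right (CharP.char_ne_zero_of_finite K p)
  have hp : Fact p.Prime := ⟨hp'⟩
  have hFp : CharP F p := by
    have h1 : ringChar K = p := ringChar.eq K p ▸ rfl
    rw [← h1, ← hc]
    exact ringChar.charP F
  have hq2 : 2 ≤ q := by
    by_contra hcon
    have h1 := Fintype.one_lt_card (α := K)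
    rw [hK] at h1
    have h2 : q = 0 ∨ q = 1 := by omega
    rcases h2 with rfl | rfl <;> norm_num at h1
  obtain ⟨f, hqf⟩ := Cfsg.Agent.H525.Ppd.exists_exp (p := p) hK
  have hd : d = 3 ∨ d = 4 ∨ d = 5 := by omega
  have hC : Core P := core_of b.core
  have hne := hC.nonempty
  have hA : Nat.card A ≤ q ^ (d ^ 2) :=
    ((b.hasSoc' e).card_le).trans (card_aut_le p hK hd h32 hq2 hqf)
  have hord := b.ord
  rw [← Nat.card_eq_fintype_card (α := F)] at hord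
  have key : ∀ N : ℕ, Nat.card F ^ N = q ^ 2 →
      Fintype.card ι * (Fintype.card ι - 1) ≤ N * (4 * d ^ 2 + 3) := fun N hN => num_bound hN hq2 hord hUB hA
  have h13 := b.thirteen
  set n := Fintype.card ι with hn
  have hnn : 12 * n ≤ n * (n - 1) := by
    rw [mul_comm 12]
    exact Nat.mul_le_mul_left _ (by omega)
  rcases hd with rfl | rfl | rfl
  · obtain ⟨N, hN1, hN, hb⟩ := Cfsg.Agent.H525.Ppd.core_bound p hC (by omega) hK e
    have h1 := key N hN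
    rcases Nat.lt_or_ge N 3 with h3 | h3
    · have : N ≤ 2 := by omega
      have h4 : N * (4 * 3 ^ 2 + 3) ≤ 2 * 39 := Nat.mul_le_mul this (by norm_num)
      omega
    · have h4 := hb h3
      omega
  · obtain ⟨N, hN1, hN⟩ := Cfsg.Agent.H269.Ppd.exists_card_pow hC p (M := 4) (by norm_num) (by omega) hK e
    have h1 := key N hN
    rcases Cfsg.Agent.H269.Ppd.core_bound4 p hC hK e hN (by omega) with hb | ⟨s, hs1, hsN, h4, h25, h14⟩
    · rcases Nat.lt_or_ge N 6 with h6 | h6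
      · interval_cases N <;> omega
      · have h7 := big_pow h6
        have h8 : 2 ^ N ≤ n := by
          have : 4 * 2 ^ N ≤ n + 4 := hb
          have : 2 ^ 6 ≤ 2 ^ N := Nat.pow_le_pow_right (by norm_num) h6
          omega
        have h9 : 2 ^ N * (2 ^ N - 1) ≤ n * (n - 1) := Nat.mul_le_mul h8 (by omega)
        have h10 : 2 ^ N * (2 ^ N - 1) + 2 ^ N = 2 ^ N * 2 ^ N := by
          have : 1 ≤ 2 ^ N := Nat.one_le_two_pow
          obtain ⟨t, ht⟩ : ∃ t, 2 ^ N = t + 1 := ⟨2 ^ N - 1, by omega⟩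
          rw [ht, Nat.add_sub_cancel]
          ring
        omega
    · have h4' : 2 ^ N ≤ n := by
        refine le_trans ?_ h4
        have : (4 : ℕ) ^ s = 2 ^ (2 * s) := by rw [pow_mul]; norm_num
        rw [this]
        exact Nat.pow_le_pow_right (by norm_num) (by rcases hsN with h | h <;> omega)
      rcases Nat.lt_or_ge N 6 with h6 | h6
      · rcases Nat.lt_or_ge s 3 with hs3 | hs3
        · have hs : s = 1 ∨ s = 2 := by omega
          rcases hs with rfl | rfl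
          · have := h14 rfl
            have : N ≤ 2 := by omega
            have h4 : N * (4 * 4 ^ 2 + 3) ≤ 2 * 67 := Nat.mul_le_mul this (by norm_num)
            omega
          · have := h25 rfl
            have : N ≤ 4 := by omega
            have h4 : N * (4 * 4 ^ 2 + 3) ≤ 4 * 67 := Nat.mul_le_mul this (by norm_num)
            omega
        · have h5 : 4 ^ 3 ≤ 4 ^ s := Nat.pow_le_pow_right (by norm_num) hs3
          have h7 : N * (4 * 4 ^ 2 + 3) ≤ 5 * 67 := Nat.mul_le_mul (by omega) (by norm_num)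
          omega
      · have h7 := big_pow h6
        have h9 : 2 ^ N * (2 ^ N - 1) ≤ n * (n - 1) := Nat.mul_le_mul h4' (by omega)
        have h10 : 2 ^ N * (2 ^ N - 1) + 2 ^ N = 2 ^ N * 2 ^ N := by
          have : 1 ≤ 2 ^ N := Nat.one_le_two_pow
          obtain ⟨t, ht⟩ : ∃ t, 2 ^ N = t + 1 := ⟨2 ^ N - 1, by omega⟩
          rw [ht, Nat.add_sub_cancel]
          ring
        omega
  · obtain ⟨N, hN1, hN, hb⟩ := Cfsg.Agent.H69.Ppd.core_five p hC hK e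
    have h1 := key N hN
    rcases Nat.lt_or_ge N 2 with h2 | h2
    · have : N ≤ 1 := by omega
      have h4 : N * (4 * 5 ^ 2 + 3) ≤ 1 * 103 := Nat.mul_le_mul this (by norm_num)
      omega
    · have h4 := hb h2
      have h5 : 19 * n ≤ n * (n - 1) := by
        rw [mul_comm 19]
        exact Nat.mul_le_mul_left _ (by omega)
      omega

end Cfsg.Agent.H69.EP
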