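import Cfsg.Agent.H69.EP.OwnPSU
import Cfsg.Agent.H640.EPC.PsuThree
import Cfsg.Agent.H303.EPC.Psu
import Cfsg.Agent.H312.EPU.RowC

/-!
# S3499, layer VII: **`OwnPSU`** (helper69)
-/

set_option autoImplicit false

namespace Cfsg.Agent.H69.EP

open Cfsg Cfsg.Agent.H419.EP

/-- `PSU_d(2)`, `d ≥ 4`, own characteristic (count: helper303; identification: helper312; `d = 4, 5`: `own_psu_small`) -/
theorem own_psu_two (hg : H59.EP.TwoGen.{0}) {Q : Type} [Group Q] [Finite Q] {A : Subgroup Q}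
    {Γ : Subgroup (MulAut Q)} {ι : Type} [Fintype ι] [DecidableEq ι] {F : Type} [Field F] [Fintype F]
    {S P : Subgroup (Matrix.GeneralLinearGroup ι F)} (b : Big A Γ S P) (K : Type) [Field K] [Fintype K] (d : ℕ)
    (hK : Fintype.card K = 4) (hd : 4 ≤ d) (hc : ringChar F = ringChar K)
    (e : Nonempty (socle P ≃* Cfsg.PSU d K 2)) : False := by
  obtain ⟨e'⟩ := e
  obtain ⟨c, h7, h8, hUB⟩ := H303.EPC.ub_psu_two b.simple b.ept hg hK hd (b.hasSoc' e')
  rcases Nat.lt_or_ge d 6 with h6 | h6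
  · exact own_psu_small b (hUB.trans (Nat.pow_le_pow_right Nat.card_pos (h7 (by omega)))) K d 2
      (by rw [hK]; norm_num) (by omega) (by omega) (fun h => by omega) hc ⟨e'⟩
  · exact H312.EPU.own_psu_gen b hUB K d 2 (by rw [hK]; norm_num) h6 hc h7 h8 ⟨e'⟩

/-- **`OwnPSU`** -/
theorem ownPSU (hg : H59.EP.TwoGen.{0}) : OwnPSU :=
  ownPSU_of (H640.EPC.h3_of hg) fun b K _ _ d hK hd _ hc e => own_psu_two hg b K d hK hd hc e

end Cfsg.Agent.H69.EP
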