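import Cfsg.Agent.H69.EP.PsuSmall
import Cfsg.Agent.H284.EPO.Fam

/-!
# S3499, layer VII: `OwnPSU`, assembly (helper69)

`ownPSU_of` : `OwnPSU` from the rank one count (`d = 3`, `|Q| ≤ |A| ^ 4`) and the field `F_4`, `d` even.
-/

set_option autoImplicit false

namespace Cfsg.Agent.H69.EP

open Cfsg Cfsg.Agent.H284 Cfsg.Agent.H419.EP Cfsg.Agent.H915.LD

/-- **`OwnPSU`** from the count for `PSU(3, q)` and from the case `q = 2`, `d` even -/
theorem ownPSU_of
    (h3 : ∀ {Q : Type} [Group Q] [Finite Q] {A : Subgroup Q} {Γ : Subgroup (MulAut Q)} {ι : Type} [Fintype ι]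
      [DecidableEq ι] {F : Type} [Field F] [Fintype F] {S P : Subgroup (Matrix.GeneralLinearGroup ι F)}, Big A Γ S P →
      ∀ (K : Type) [Field K] [Fintype K] (q : ℕ), Fintype.card K = q ^ 2 → 3 ≤ q → ringChar F = ringChar K →
      Nonempty (socle P ≃* Cfsg.PSU 3 K q) → Nat.card Q ≤ Nat.card A ^ 4)
    (hq : ∀ {Q : Type} [Group Q] [Finite Q] {A : Subgroup Q} {Γ : Subgroup (MulAut Q)} {ι : Type} [Fintype ι]
      [DecidableEq ι] {F : Type} [Field F] [Fintype F] {S P : Subgroup (Matrix.GeneralLinearGroup ι F)}, Big A Γ S P →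
      ∀ (K : Type) [Field K] [Fintype K] (d : ℕ), Fintype.card K = 4 → 4 ≤ d → Even d → ringChar F = ringChar K →
      Nonempty (socle P ≃* Cfsg.PSU d K 2) → False) : OwnPSU :=
  H284.Own.ownPSU_of
    (fun b K _ _ q hK hq3 hc e => own_psu_small b (h3 b K q hK hq3 hc e) K 3 q hK le_rfl (by omega)
      (fun h => by omega) hc e) hq

end Cfsg.Agent.H69.EP
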